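import Mathlib

/-! Lifting the normalizer of an element of order 35. -/

set_option autoImplicit false
set_option maxRecDepth 100000

namespace Cfsg.Agent.AltS

open Subgroup

theorem f35_fr {G Q : Type*} [Group G] [Finite G] [Group Q] (π : G →* Q)
    (hπ : Function.Surjective π) {p : ℕ} [Fact p.Prime] (A : Subgroup Q) [A.Normal]
    (hA : IsPGroup p A) : ∃ P : Subgroup G, IsPGroup p P ∧ P.map π = A ∧
      (normalizer (P : Set G)).map π = ⊤ := by
  let M : Subgroup G := A.comap π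
  let P : Sylow p M := default
  let f : M →* A := (π.comp M.subtype).codRestrict _ fun g => g.2
  have hf : Function.Surjective f := fun c => by
    obtain ⟨g, hg⟩ := hπ c
    exact ⟨⟨g, by simp [M, hg]⟩, Subtype.ext hg⟩
  have htop : ((P.mapSurjective hf : Sylow p _) : Subgroup A) = ⊤ :=
    ((P.mapSurjective hf).3 (hA.to_subgroup ⊤) le_top).symm
  have h1 : ((P : Subgroup M).map M.subtype).map π = A := by
    refine le_antisymm ?_ fun a ha => ?_
    · rintro _ ⟨_, ⟨g, -, rfl⟩, rfl⟩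
      exact g.2
    · have : (⟨a, ha⟩ : A) ∈ (P : Subgroup M).map f := by
        rw [← Sylow.coe_mapSurjective hf, htop]; trivial
      obtain ⟨x, hx, e⟩ := this
      exact ⟨x, ⟨x, hx, rfl⟩, congrArg Subtype.val e⟩
  refine ⟨(P : Subgroup M).map M.subtype, P.2.map _, h1, ?_⟩
  have h2 := congrArg (map π) (Sylow.normalizer_sup_eq_top P)
  rw [Subgroup.map_sup, map_top_of_surjective π hπ, map_comap_eq_self_of_surjective hπ,
    sup_eq_left.2 (h1.ge.trans (map_mono le_normalizer))] at h2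
  exact h2

theorem f35_two {G Q : Type*} [Group G] [Finite G] [Group Q] (π : G →* Q)
    (hπ : Function.Surjective π) {p q : ℕ} [Fact p.Prime] [Fact q.Prime] (A C : Subgroup Q)
    [A.Normal] [C.Normal] (hA : IsPGroup p A) (hC : IsPGroup q C) :
    ∃ P R : Subgroup G, IsPGroup p P ∧ IsPGroup q R ∧ R ≤ normalizer (P : Set G) ∧ P.map π = A ∧
      R.map π = C ∧ ∀ b, ∃ y ∈ normalizer (P : Set G), y ∈ normalizer (R : Set G) ∧ π y = b := by
  obtain ⟨P, h1, h2, h3⟩ := f35_fr π hπ A hA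
  obtain ⟨R, k1, k2, k3⟩ := f35_fr (π.comp (normalizer (P : Set G)).subtype) (fun b => by
    obtain ⟨y, hy, e⟩ : b ∈ (normalizer (P : Set G)).map π := h3 ▸ mem_top b
    exact ⟨⟨y, hy⟩, e⟩) C hC
  refine ⟨P, R.map (normalizer (P : Set G)).subtype, h1, k1.map _, map_subtype_le _, h2,
    by rw [map_map, k2], fun b => ?_⟩
  obtain ⟨y, hy, e⟩ : b ∈ (normalizer (R : Set (normalizer (P : Set G)))).map
    (π.comp (normalizer (P : Set G)).subtype) := k3 ▸ mem_top b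
  exact ⟨y, y.2, le_normalizer_map _ ⟨y, hy, rfl⟩, e⟩

theorem f35_norm {Q : Type*} [Group Q] [Finite Q] {a b : Q} {k : ℕ} (h : b * a * b⁻¹ = a ^ k) :
    b ∈ normalizer (zpowers a : Set Q) := by
  refine mem_normalizer_fintype fun n hn => ?_
  obtain ⟨j, rfl⟩ := hn
  simp only
  rw [← conj_zpow, h]
  exact zpow_mem (pow_mem (mem_zpowers a) k) j

theorem lift35 {G Q : Type*} [Group G] [Finite G] [Group Q] (π : G →* Q)
    (hπ : Function.Surjective π) {a c b : Q} (ha : orderOf a = 5) (hc : orderOf c = 7)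
    (hac : Commute a c) (hba : b * a * b⁻¹ = a ^ 2) (hbc : b * c * b⁻¹ = c ^ 3) :
    ∃ P R : Subgroup G, IsPGroup 5 P ∧ IsPGroup 7 R ∧ R ≤ normalizer (P : Set G) ∧
      ∃ y ∈ normalizer (P : Set G), y ∈ normalizer (R : Set G) ∧ π y = b ∧
        ∃ x ∈ P, ∃ z ∈ R, π x = a ∧ π z = c := by
  haveI : Fact (Nat.Prime 5) := ⟨by norm_num⟩
  haveI : Fact (Nat.Prime 7) := ⟨by norm_num⟩
  haveI : Finite Q := Finite.of_surjective π hπ
  let L := normalizer (zpowers a : Set Q) ⊓ normalizer (zpowers c : Set Q)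
  have haL : a ∈ L := ⟨le_normalizer (mem_zpowers a),
    f35_norm (k := 1) (by rw [hac.eq, mul_inv_cancel_right, pow_one])⟩
  have hcL : c ∈ L := ⟨f35_norm (k := 1) (by rw [← hac.eq, mul_inv_cancel_right, pow_one]),
    le_normalizer (mem_zpowers c)⟩
  have hbL : b ∈ L := ⟨f35_norm hba, f35_norm hbc⟩
  let M := L.comap π
  let f : M →* L := (π.comp M.subtype).codRestrict _ fun g => g.2
  have hf : Function.Surjective f := fun c => by
    obtain ⟨g, hg⟩ := hπ c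
    exact ⟨⟨g, by simp only [M, mem_comap, hg]; exact c.2⟩, Subtype.ext hg⟩
  haveI : ((zpowers a).subgroupOf L).Normal := normal_subgroupOf_of_le_normalizer inf_le_left
  haveI : ((zpowers c).subgroupOf L).Normal := normal_subgroupOf_of_le_normalizer inf_le_right
  obtain ⟨P, R, h1, h2, h3, h4, h5, h6⟩ := f35_two f hf (p := 5) (q := 7)
    ((zpowers a).subgroupOf L) ((zpowers c).subgroupOf L)
    ((IsPGroup.of_card (n := 1) (by simp [ha])).comap_subtype)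
    ((IsPGroup.of_card (n := 1) (by simp [hc])).comap_subtype)
  obtain ⟨y, y1, y2, y3⟩ := h6 ⟨b, hbL⟩
  obtain ⟨x, x1, x2⟩ : (⟨a, haL⟩ : L) ∈ P.map f := h4 ▸ mem_zpowers a
  obtain ⟨z, z1, z2⟩ : (⟨c, hcL⟩ : L) ∈ R.map f := h5 ▸ mem_zpowers c
  exact ⟨P.map M.subtype, R.map M.subtype, h1.map _, h2.map _,
    (map_mono h3).trans (le_normalizer_map _), y, le_normalizer_map _ ⟨y, y1, rfl⟩,
    le_normalizer_map _ ⟨y, y2, rfl⟩, congrArg Subtype.val y3, x, ⟨x, x1, rfl⟩, z, ⟨z, z1, rfl⟩,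
    congrArg Subtype.val x2, congrArg Subtype.val z2⟩

theorem f35_emb {n r : ℕ} (h : n ≤ r) : ∃ ι : alternatingGroup (Fin n) →* alternatingGroup (Fin r),
    Function.Injective ι := by
  let ι := Equiv.Perm.viaEmbeddingHom (Fin.castLEEmb h)
  refine ⟨(ι.comp (alternatingGroup (Fin n)).subtype).codRestrict _ fun g => ?_, fun x y e =>
    Subtype.ext (Equiv.Perm.viaEmbeddingHom_injective _ (congrArg Subtype.val e))⟩
  exact (@Equiv.Perm.sign_extendDomain _ _ _ _ _ _ _ _ (fun _ => Classical.propDecidable _) _).trans g.2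

/-- a permutation from its list of values and the list of values of the inverse -/
def f35P {n : ℕ} (u v : Fin n → Fin n) (h : (∀ i, v (u i) = i) ∧ ∀ i, u (v i) = i) :
    Equiv.Perm (Fin n) := ⟨u, v, h.1, h.2⟩

/-- a five-cycle -/
def f35a : Equiv.Perm (Fin 12) :=
  f35P ![1, 2, 3, 4, 0, 5, 6, 7, 8, 9, 10, 11] ![4, 0, 1, 2, 3, 5, 6, 7, 8, 9, 10, 11] (by decide)
/-- a seven-cycle -/
def f35c : Equiv.Perm (Fin 12) :=
  f35P ![0, 1, 2, 3, 4, 6, 7, 8, 9, 10, 11, 5] ![0, 1, 2, 3, 4, 11, 5, 6, 7, 8, 9, 10] (by decide)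
/-- an element normalizing both -/
def f35b : Equiv.Perm (Fin 12) :=
  f35P ![0, 2, 4, 1, 3, 5, 8, 11, 7, 10, 6, 9] ![0, 3, 1, 4, 2, 5, 10, 8, 6, 11, 9, 7] (by decide)

theorem f35_sp : (Equiv.Perm.sign f35a = 1 ∧ Equiv.Perm.sign f35c = 1 ∧ Equiv.Perm.sign f35b = 1) ∧
    (f35a ^ 5 = 1 ∧ f35a ≠ 1) ∧ (f35c ^ 7 = 1 ∧ f35c ≠ 1) ∧ f35a * f35c = f35c * f35a ∧
    f35b * f35a * f35b⁻¹ = f35a ^ 2 ∧ f35b * f35c * f35b⁻¹ = f35c ^ 3 := by decide +kernel

theorem ex35 {r : ℕ} (hr : 12 ≤ r) : ∃ a c b : alternatingGroup (Fin r), orderOf a = 5 ∧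
    orderOf c = 7 ∧ Commute a c ∧ b * a * b⁻¹ = a ^ 2 ∧ b * c * b⁻¹ = c ^ 3 := by
  obtain ⟨ι, hι⟩ := f35_emb hr
  obtain ⟨⟨s1, s2, s3⟩, h1, h2, h3, h4, h5⟩ := f35_sp
  refine ⟨ι ⟨f35a, s1⟩, ι ⟨f35c, s2⟩, ι ⟨f35b, s3⟩, ?_, ?_, ?_, ?_, ?_⟩
  · rw [orderOf_injective ι hι]
    exact orderOf_eq_prime (hp := ⟨by norm_num⟩) (Subtype.ext h1.1)
      fun e => h1.2 (congrArg Subtype.val e)
  · rw [orderOf_injective ι hι]
    exact orderOf_eq_prime (hp := ⟨by norm_num⟩) (Subtype.ext h2.1)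
      fun e => h2.2 (congrArg Subtype.val e)
  · exact Commute.map (Subtype.ext h3) ι
  · rw [← map_inv, ← map_mul, ← map_mul, ← map_pow]; exact congrArg ι (Subtype.ext h4)
  · rw [← map_inv, ← map_mul, ← map_mul, ← map_pow]; exact congrArg ι (Subtype.ext h5)

/-- an eleven-cycle -/
def f11a : Equiv.Perm (Fin 11) := f35P (fun i => i + 1) (fun i => i + 10) (by decide)
/-- an element of order five normalizing it -/
def f11b : Equiv.Perm (Fin 11) := f35P (fun i => 3 * i) (fun i => 4 * i) (by decide)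

theorem f11_sp : (Equiv.Perm.sign f11a = 1 ∧ Equiv.Perm.sign f11b = 1) ∧
    (f11a ^ 11 = 1 ∧ f11a ≠ 1) ∧ f11b * f11a * f11b⁻¹ = f11a ^ 3 := by decide +kernel

theorem ex11 {r : ℕ} (hr : 11 ≤ r) : ∃ a b : alternatingGroup (Fin r), orderOf a = 11 ∧
    b * a * b⁻¹ = a ^ 3 := by
  obtain ⟨ι, hι⟩ := f35_emb hr
  obtain ⟨⟨s1, s2⟩, h1, h2⟩ := f11_sp
  refine ⟨ι ⟨f11a, s1⟩, ι ⟨f11b, s2⟩, ?_, ?_⟩
  · rw [orderOf_injective ι hι]
    exact orderOf_eq_prime (hp := ⟨by norm_num⟩) (Subtype.ext h1.1)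
      fun e => h1.2 (congrArg Subtype.val e)
  · rw [← map_inv, ← map_mul, ← map_mul, ← map_pow]; exact congrArg ι (Subtype.ext h2)

end Cfsg.Agent.AltS
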