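import Mathlib
import Cfsg.Agent.AltS.F35

/-! Groups with an abelian subgroup whose fusion is controlled as in type `F₄`. -/

set_option autoImplicit false

namespace Cfsg.Agent.AltS

open Subgroup

variable {G : Type*} [Group G] [Finite G]

theorem g35_into {p : ℕ} [Fact p.Prime] {T P : Subgroup G} (h : ¬ p ∣ T.index) (hP : IsPGroup p P) :
    ∃ g : G, ∀ s ∈ P, g * s * g⁻¹ ∈ T := by
  let S : Sylow p T := default
  have h1 : ¬ p ∣ ((S : Subgroup T).map T.subtype).index := by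
    rw [index_map_subtype]
    exact fun e => ((Nat.Prime.dvd_mul Fact.out).1 e).elim S.not_dvd_index h
  let R := (S.2.map T.subtype).toSylow h1
  obtain ⟨R', hR'⟩ := hP.exists_le_sylow
  obtain ⟨c, hc⟩ := MulAction.exists_smul_eq G R' R
  refine ⟨c, fun s hs => ?_⟩
  have : c * s * c⁻¹ ∈ (R : Subgroup G) := by
    rw [← hc, Sylow.coe_subgroup_smul]
    exact smul_mem_pointwise_smul _ _ _ (hR' hs)
  exact map_subtype_le _ this

omit [Finite G] in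
theorem g35_act {T : Subgroup G}
    (hact : ∀ y : G, ∃ n : G, (∀ s ∈ T, y * s * y⁻¹ ∈ T → y * s * y⁻¹ = n * s * n⁻¹) ∧
      ((∀ s ∈ T, n ^ 8 * s * (n ^ 8)⁻¹ = s) ∨ (∀ s ∈ T, n ^ 6 * s * (n ^ 6)⁻¹ = s) ∨
        (∀ s ∈ T, n ^ 6 * s * (n ^ 6)⁻¹ = s⁻¹)))
    {P : Set G} {g y : G} (hP : ∀ s ∈ P, g * s * g⁻¹ ∈ T) (hy : ∀ s ∈ P, y * s * y⁻¹ ∈ P) :
    (∀ s ∈ P, y ^ 8 * s * (y ^ 8)⁻¹ = s) ∨ (∀ s ∈ P, y ^ 6 * s * (y ^ 6)⁻¹ = s) ∨
      (∀ s ∈ P, y ^ 6 * s * (y ^ 6)⁻¹ = s⁻¹) := by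
  obtain ⟨n, h1, h2⟩ := hact (g * y * g⁻¹)
  have key : ∀ k : ℕ, ∀ s ∈ P, y ^ k * s * (y ^ k)⁻¹ ∈ P ∧
      y ^ k * s * (y ^ k)⁻¹ = g⁻¹ * (n ^ k * (g * s * g⁻¹) * (n ^ k)⁻¹) * g := fun k s hs => by
    induction k with
    | zero => exact ⟨by simpa using hs, by group⟩
    | succ k ih =>
      have e : y ^ (k + 1) * s * (y ^ (k + 1))⁻¹ = y * (y ^ k * s * (y ^ k)⁻¹) * y⁻¹ := by
        rw [pow_succ']; group
      have h3 := hy _ ih.1
      refine ⟨e ▸ h3, ?_⟩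
      have h4 := h1 _ (hP _ ih.1) (by
        have := hP _ h3
        rwa [show g * (y * (y ^ k * s * (y ^ k)⁻¹) * y⁻¹) * g⁻¹ = g * y * g⁻¹ *
          (g * (y ^ k * s * (y ^ k)⁻¹) * g⁻¹) * (g * y * g⁻¹)⁻¹ by group] at this)
      calc y ^ (k + 1) * s * (y ^ (k + 1))⁻¹ = g⁻¹ * (g * y * g⁻¹ *
          (g * (y ^ k * s * (y ^ k)⁻¹) * g⁻¹) * (g * y * g⁻¹)⁻¹) * g := by rw [e]; group
        _ = _ := by rw [h4, ih.2, pow_succ']; group
  rcases h2 with h | h | h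
  · exact Or.inl fun s hs => by rw [(key 8 s hs).2, h _ (hP s hs)]; group
  · exact Or.inr (Or.inl fun s hs => by rw [(key 6 s hs).2, h _ (hP s hs)]; group)
  · exact Or.inr (Or.inr fun s hs => by rw [(key 6 s hs).2, h _ (hP s hs)]; group)

omit [Finite G] in
theorem g35_24 {y s : G} (h : y ^ 8 * s * (y ^ 8)⁻¹ = s ∨ y ^ 6 * s * (y ^ 6)⁻¹ = s ∨
    y ^ 6 * s * (y ^ 6)⁻¹ = s⁻¹) : Commute (y ^ 24) s := by
  rcases h with h | h | h
  · exact (show Commute (y ^ 8) s from mul_inv_eq_iff_eq_mul.1 h).pow_left 3 |>.symm |> fun e => by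
      rw [← pow_mul] at e; exact e.symm
  · exact (show Commute (y ^ 6) s from mul_inv_eq_iff_eq_mul.1 h).pow_left 4 |>.symm |> fun e => by
      rw [← pow_mul] at e; exact e.symm
  · have h1 : y ^ 6 * y ^ 6 * s * (y ^ 6 * y ^ 6)⁻¹ = s := by
      calc y ^ 6 * y ^ 6 * s * (y ^ 6 * y ^ 6)⁻¹ = y ^ 6 * (y ^ 6 * s * (y ^ 6)⁻¹) * (y ^ 6)⁻¹ := by
            group
        _ = y ^ 6 * s⁻¹ * (y ^ 6)⁻¹ := by rw [h]
        _ = (y ^ 6 * s * (y ^ 6)⁻¹)⁻¹ := by group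
        _ = s := by rw [h, inv_inv]
    have := (show Commute (y ^ 6 * y ^ 6) s from mul_inv_eq_iff_eq_mul.1 h1).pow_left 2
    rwa [← pow_add, ← pow_mul] at this

omit [Finite G] in
theorem g35_pow {a b : G} {j : ℕ} (h : b * a * b⁻¹ = a ^ j) (k : ℕ) :
    b ^ k * a * (b ^ k)⁻¹ = a ^ j ^ k := by
  induction k with
  | zero => simp
  | succ k ih =>
    calc b ^ (k + 1) * a * (b ^ (k + 1))⁻¹ = b * (b ^ k * a * (b ^ k)⁻¹) * b⁻¹ := by
          rw [pow_succ']; group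
      _ = _ := by rw [ih, ← conj_pow, h, ← pow_mul, pow_succ']

theorem no35b (T : Subgroup G) (hab : ∀ a ∈ T, ∀ b ∈ T, a * b = b * a) (h5 : ¬ 5 ∣ T.index)
    (h7 : ¬ 7 ∣ T.index)
    (hact : ∀ y : G, ∃ n : G, (∀ s ∈ T, y * s * y⁻¹ ∈ T → y * s * y⁻¹ = n * s * n⁻¹) ∧
      ((∀ s ∈ T, n ^ 8 * s * (n ^ 8)⁻¹ = s) ∨ (∀ s ∈ T, n ^ 6 * s * (n ^ 6)⁻¹ = s) ∨
        (∀ s ∈ T, n ^ 6 * s * (n ^ 6)⁻¹ = s⁻¹)))
    (r : ℕ) (H : Subgroup G) (K : Subgroup H) [K.Normal]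
    (h : Nonempty (H ⧸ K ≃* alternatingGroup (Fin r))) : r ≤ 11 := by
  haveI : Fact (Nat.Prime 5) := ⟨by norm_num⟩
  haveI : Fact (Nat.Prime 7) := ⟨by norm_num⟩
  by_contra hr
  obtain ⟨e⟩ := h
  obtain ⟨a, c, b, ha, hc, hac, hba, hbc⟩ := ex35 (r := r) (by omega)
  obtain ⟨π, hπ⟩ : ∃ π : H →* alternatingGroup (Fin r), Function.Surjective π :=
    ⟨e.toMonoidHom.comp (QuotientGroup.mk' K), e.surjective.comp (QuotientGroup.mk'_surjective K)⟩
  obtain ⟨P, R, hP, hR, hRP, y, y1, y2, rfl, x, hx, z, hz, rfl, rfl⟩ := lift35 π hπ ha hc hac hba hbc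
  have nm : ∀ {A : Subgroup H} {u : H}, u ∈ normalizer (A : Set H) → ∀ s ∈ A.map H.subtype,
      (u : G) * s * (u : G)⁻¹ ∈ A.map H.subtype := fun hu s hs =>
    (mem_normalizer_iff.1 (le_normalizer_map _ ⟨_, hu, rfl⟩) s).1 hs
  obtain ⟨g, hg⟩ := g35_into h5 (hP.map H.subtype)
  let C := centralizer ((P.map H.subtype).map (MulAut.conj g).toMonoidHom : Set G)
  have hTC : T ≤ C := fun t ht => mem_centralizer_iff.2 (by
    rintro _ ⟨s, hs, rfl⟩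
    exact hab _ (hg s hs) _ ht)
  have hRC : (R.map H.subtype).map (MulAut.conj g).toMonoidHom ≤ C := by
    rintro _ ⟨_, ⟨u, hu, rfl⟩, rfl⟩
    refine mem_centralizer_iff.2 ?_
    rintro _ ⟨s, hs, rfl⟩
    have h1 : Commute ((u : G) ^ 24) s := g35_24 ((g35_act hact hg (nm (hRP hu))).imp (· s hs)
      (Or.imp (· s hs) (· s hs)))
    obtain ⟨k, hk⟩ := hR ⟨u, hu⟩
    have h2 : (u : G) ^ 7 ^ k = 1 := congrArg (fun v : R => ((v : H) : G)) hk
    have h3 : (u : G) ∈ zpowers ((u : G) ^ 24) := mem_zpowers_pow_iff.2 (Nat.Coprime.coprime_dvd_right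
      (orderOf_dvd_of_pow_eq_one h2) (Nat.Coprime.pow_right k (by norm_num)))
    obtain ⟨j, hj⟩ := h3
    have h4 : Commute (u : G) s := hj ▸ h1.zpow_left j
    exact (h4.map (MulAut.conj g).toMonoidHom).symm.eq
  obtain ⟨d, hd⟩ := g35_into (T := T.subgroupOf C) (p := 7)
    (fun e => h7 (e.trans (relIndex_dvd_index_of_le hTC)))
    (((hR.map H.subtype).map (MulAut.conj g).toMonoidHom).comap_subtype (K := C))
  have key := g35_act hact (P := (P.map H.subtype : Set G) ∪ R.map H.subtype) (g := d * g) (y := y)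
    (by
      rintro s (hs | hs)
      · have := mem_centralizer_iff.1 d.2 _ ⟨s, hs, rfl⟩
        change g * s * g⁻¹ * d = d * (g * s * g⁻¹) at this
        rw [show (d : G) * g * s * (d * g)⁻¹ = d * (g * s * g⁻¹) * (d : G)⁻¹ by group, ← this,
          mul_inv_cancel_right]
        exact hg s hs
      · have := hd ⟨_, hRC ⟨s, hs, rfl⟩⟩ ⟨s, hs, rfl⟩
        rw [show (d : G) * g * s * (d * g)⁻¹ = d * (g * s * g⁻¹) * (d : G)⁻¹ by group]
        exact this)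
    (by
      rintro s (hs | hs)
      · exact Or.inl (nm y1 s hs)
      · exact Or.inr (nm y2 s hs))
  have up : ∀ {k : ℕ} {u v : H}, (y : G) ^ k * u * ((y : G) ^ k)⁻¹ = v →
      π y ^ k * π u * (π y ^ k)⁻¹ = π v := fun h => by
    rw [← map_pow, ← map_inv, ← map_mul, ← map_mul]
    exact congrArg π (Subtype.ext h)
  rcases key with k | k | k
  · have := up (k z (Or.inr ⟨z, hz, rfl⟩))
    rw [g35_pow hbc] at this
    have := pow_eq_pow_iff_modEq.1 (this.trans (pow_one _).symm)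
    rw [hc] at this
    exact absurd this (by decide)
  · have := up (k x (Or.inl ⟨x, hx, rfl⟩))
    rw [g35_pow hba] at this
    have := pow_eq_pow_iff_modEq.1 (this.trans (pow_one _).symm)
    rw [ha] at this
    exact absurd this (by decide)
  · have := up (v := z⁻¹) (k z (Or.inr ⟨z, hz, rfl⟩))
    rw [g35_pow hbc, map_inv] at this
    have := orderOf_dvd_of_pow_eq_one ((pow_succ _ _).trans (mul_eq_one_iff_eq_inv.2 this))
    rw [hc] at this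
    exact absurd this (by decide)

theorem no11b (T : Subgroup G) (h11 : ¬ 11 ∣ T.index)
    (hact : ∀ y : G, ∃ n : G, (∀ s ∈ T, y * s * y⁻¹ ∈ T → y * s * y⁻¹ = n * s * n⁻¹) ∧
      ((∀ s ∈ T, n ^ 8 * s * (n ^ 8)⁻¹ = s) ∨ (∀ s ∈ T, n ^ 6 * s * (n ^ 6)⁻¹ = s) ∨
        (∀ s ∈ T, n ^ 6 * s * (n ^ 6)⁻¹ = s⁻¹)))
    (r : ℕ) (H : Subgroup G) (K : Subgroup H) [K.Normal]
    (h : Nonempty (H ⧸ K ≃* alternatingGroup (Fin r))) : r ≤ 10 := by
  haveI : Fact (Nat.Prime 11) := ⟨by norm_num⟩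
  by_contra hr
  obtain ⟨e⟩ := h
  obtain ⟨a, b, ha, hba⟩ := ex11 (r := r) (by omega)
  obtain ⟨π, hπ⟩ : ∃ π : H →* alternatingGroup (Fin r), Function.Surjective π :=
    ⟨e.toMonoidHom.comp (QuotientGroup.mk' K), e.surjective.comp (QuotientGroup.mk'_surjective K)⟩
  let L := normalizer (zpowers a : Set (alternatingGroup (Fin r)))
  let M := L.comap π
  let f : M →* L := (π.comp M.subtype).codRestrict _ fun g => g.2
  have hf : Function.Surjective f := fun c => by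
    obtain ⟨g, hg⟩ := hπ c
    exact ⟨⟨g, by simp only [M, mem_comap, hg]; exact c.2⟩, Subtype.ext hg⟩
  haveI : ((zpowers a).subgroupOf L).Normal := normal_subgroupOf_of_le_normalizer le_rfl
  obtain ⟨P, h1, h2, h3⟩ := f35_fr f hf (p := 11) ((zpowers a).subgroupOf L)
    ((IsPGroup.of_card (n := 1) (by rw [Nat.card_zpowers, ha, pow_one])).comap_subtype)
  obtain ⟨y, y1, y3⟩ : (⟨b, f35_norm hba⟩ : L) ∈ (normalizer (P : Set M)).map f := h3 ▸ mem_top _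
  obtain ⟨x, x1, x2⟩ : (⟨a, le_normalizer (mem_zpowers a)⟩ : L) ∈ P.map f := h2 ▸ mem_zpowers a
  let j := H.subtype.comp M.subtype
  obtain ⟨g, hg⟩ := g35_into h11 (h1.map j)
  have h4 := g35_24 ((g35_act hact hg (y := j y) fun s hs =>
    (mem_normalizer_iff.1 (le_normalizer_map _ ⟨_, y1, rfl⟩) s).1 hs).imp (· (j x) ⟨x, x1, rfl⟩)
      (Or.imp (· (j x) ⟨x, x1, rfl⟩) (· (j x) ⟨x, x1, rfl⟩)))
  have h5 : Commute (y ^ 24) x := Subtype.ext (Subtype.ext h4)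
  have h6 := (h5.map (L.subtype.comp f)).eq
  rw [map_pow, MonoidHom.comp_apply, MonoidHom.comp_apply, y3, x2] at h6
  have h7 := (g35_pow hba 24).symm.trans (mul_inv_eq_iff_eq_mul.2 h6)
  have := pow_eq_pow_iff_modEq.1 (h7.trans (pow_one _).symm)
  rw [ha] at this
  exact absurd this (by decide)

end Cfsg.Agent.AltS
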