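import Mathlib
import Cfsg.Agent.FGS.Basic

/-!
Alternating sections of groups with an abelian subgroup whose fusion is controlled by a group of
exponent `24` with restricted elements of order `12`.
-/

set_option autoImplicit false
set_option maxRecDepth 100000

namespace Cfsg.Agent.AltS

theorem l35_frat {E Q : Type*} [Group E] [Finite E] [Group Q] (π : E →* Q) (C : Subgroup E)
    {p : ℕ} [Fact p.Prime] {a : Q} (ha : orderOf a = p) (hC : ∃ c ∈ C, π c = a) :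
    ∃ P : Subgroup E, P ≤ C ∧ IsPGroup p P ∧ (∃ x ∈ P, π x = a) ∧
      ∀ y0 ∈ Subgroup.normalizer (C : Set E),
        π y0 ∈ Subgroup.normalizer (Subgroup.zpowers a : Set Q) →
        ∃ m ∈ C, π m = 1 ∧ m * y0 ∈ Subgroup.normalizer (P : Set E) := by
  let M : Subgroup E := C ⊓ (Subgroup.zpowers a).comap π
  let P : Sylow p M := default
  let f : M →* Subgroup.zpowers a := (π.comp M.subtype).codRestrict _ fun g => g.2.2
  have hf : Function.Surjective f := fun c => by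
    obtain ⟨c0, hc0, e0⟩ := hC
    obtain ⟨_, i, rfl⟩ := c
    refine ⟨⟨c0 ^ i, zpow_mem hc0 i, ⟨i, by simp [e0]⟩⟩, Subtype.ext ?_⟩
    show π (c0 ^ i) = a ^ i
    rw [map_zpow, e0]
  have hz : IsPGroup p (Subgroup.zpowers a) := IsPGroup.of_card (n := 1) (by simp [ha])
  have htop : ((P.mapSurjective hf : Sylow p _) : Subgroup (Subgroup.zpowers a)) = ⊤ :=
    ((P.mapSurjective hf).3 (hz.to_subgroup ⊤) le_top).symm
  have hall : ∀ c : Subgroup.zpowers a, c ∈ (P : Subgroup M).map f := fun c => by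
    rw [← Sylow.coe_mapSurjective hf, htop]; trivial
  refine ⟨(P : Subgroup M).map M.subtype, ?_, P.2.map _, ?_, ?_⟩
  · rintro _ ⟨g, -, rfl⟩
    exact g.2.1
  · obtain ⟨x, hx, hxa⟩ := hall ⟨a, Subgroup.mem_zpowers a⟩
    exact ⟨x, ⟨x, hx, rfl⟩, congrArg Subtype.val hxa⟩
  intro y0 hyC hb
  have hy0 : ∀ g, g ∈ M ↔ y0 * g * y0⁻¹ ∈ M := fun g => by
    simp only [M, Subgroup.mem_inf, Subgroup.mem_comap, map_mul, map_inv]
    exact and_congr (Subgroup.mem_normalizer_iff.mp hyC _) (Subgroup.mem_normalizer_iff.mp hb _)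
  let φ : M ≃* M :=
    { toFun := fun g => ⟨y0 * g * y0⁻¹, (hy0 g).1 g.2⟩
      invFun := fun g => ⟨y0⁻¹ * g * y0, (hy0 _).2 (by simpa [mul_assoc] using g.2)⟩
      left_inv := fun g => by ext; simp [mul_assoc]
      right_inv := fun g => by ext; simp [mul_assoc]
      map_mul' := fun g h => by ext; simp [mul_assoc] }
  obtain ⟨m, hm⟩ := MulAction.exists_smul_eq M ((φ : MulAut M) • P) P
  have hm' : ∀ g : M, g ∈ (P : Subgroup M) ↔ m * φ g * m⁻¹ ∈ (P : Subgroup M) := fun g => by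
    conv_rhs => rw [← hm]
    rw [Sylow.coe_subgroup_smul, Sylow.pointwise_smul_def, Subgroup.mem_pointwise_smul_iff_inv_smul_mem,
      Subgroup.mem_pointwise_smul_iff_inv_smul_mem]
    simp [mul_assoc]
  have hN : (m : E) * y0 ∈ Subgroup.normalizer (((P : Subgroup M).map M.subtype : Subgroup E) : Set E) := by
    rw [Subgroup.mem_normalizer_iff]
    intro g
    constructor
    · rintro ⟨g, hg, rfl⟩
      exact ⟨_, (hm' g).1 hg, by simp [φ, mul_assoc]⟩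
    · rintro ⟨h, hh, e⟩
      have hg : g ∈ M := by
        have : g = y0⁻¹ * ((m : E)⁻¹ * h * m) * y0 := by
          simp only [Subgroup.coe_subtype] at e; rw [e]; group
        rw [hy0, this]
        simpa [mul_assoc] using mul_mem (mul_mem (inv_mem m.2) h.2) m.2
      refine ⟨⟨g, hg⟩, (hm' _).2 ?_, rfl⟩
      have : m * φ ⟨g, hg⟩ * m⁻¹ = h := by
        ext; simp only [Subgroup.coe_subtype] at e; simp [φ, e, mul_assoc]
      rw [this]; exact hh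
  obtain ⟨u, hu, hue⟩ := hall (f m)⁻¹
  refine ⟨(u : E) * m, mul_mem u.2.1 m.2.1, ?_, ?_⟩
  · have e1 : π u = (π m)⁻¹ := congrArg Subtype.val hue
    rw [map_mul, e1, inv_mul_cancel]
  · rw [mul_assoc]
    exact mul_mem (Subgroup.le_normalizer (⟨u, hu, rfl⟩ : (u : E) ∈ (P : Subgroup M).map M.subtype)) hN

theorem l35_into {G : Type*} [Group G] [Finite G] (T C : Subgroup G) (hTC : T ≤ C) {p : ℕ}
    [Fact p.Prime] (hp : ¬ p ∣ T.index) (P : Subgroup G) (hP : IsPGroup p P) (hPC : P ≤ C) :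
    ∃ c ∈ C, ∀ s ∈ P, c * s * c⁻¹ ∈ T := by
  have hi : ¬ p ∣ (T.subgroupOf C).index := fun h =>
    hp (h.trans (Subgroup.relIndex_dvd_index_of_le hTC))
  obtain ⟨R, hR⟩ := FGS.exists_sylow_le_of_not_dvd_index hi
  have hP' : IsPGroup p (P.subgroupOf C) := hP.comap_subtype
  obtain ⟨R', hR'⟩ := hP'.exists_le_sylow
  obtain ⟨c, hc⟩ := MulAction.exists_smul_eq C R' R
  refine ⟨c, c.2, fun s hs => ?_⟩
  have : c * ⟨s, hPC hs⟩ * c⁻¹ ∈ (R : Subgroup C) := by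
    rw [← hc, Sylow.coe_subgroup_smul]
    exact Subgroup.smul_mem_pointwise_smul _ _ _ (hR' hs)
  exact hR this

/-- the fusion hypothesis -/
def Act24 {G : Type*} [Group G] (T : Subgroup G) : Prop :=
  ∀ y : G, ∃ n : G, (∀ s ∈ T, y*s*y⁻¹ ∈ T → y*s*y⁻¹ = n*s*n⁻¹) ∧
    ((∀ s ∈ T, n^8*s*(n^8)⁻¹ = s) ∨ (∀ s ∈ T, n^6*s*(n^6)⁻¹ = s) ∨ (∀ s ∈ T, n^6*s*(n^6)⁻¹ = s⁻¹))

theorem l35_act {G : Type*} [Group G] {T : Subgroup G} (hact : Act24 T) (S : Set G) (c y : G)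
    (hS : ∀ s ∈ S, c * s * c⁻¹ ∈ T) (hy : ∀ s ∈ S, y * s * y⁻¹ ∈ S) :
    (∀ s ∈ S, y^8*s*(y^8)⁻¹ = s) ∨ (∀ s ∈ S, y^6*s*(y^6)⁻¹ = s) ∨
      (∀ s ∈ S, y^6*s*(y^6)⁻¹ = s⁻¹) := by
  obtain ⟨n, hn, h⟩ := hact (c * y * c⁻¹)
  have hk : ∀ (k : ℕ), ∀ s ∈ S, y ^ k * s * (y ^ k)⁻¹ ∈ S := by
    intro k s hs
    induction k with
    | zero => simpa using hs
    | succ k ih =>
      have := hy _ ih
      rwa [show y * (y ^ k * s * (y ^ k)⁻¹) * y⁻¹ = y ^ (k + 1) * s * (y ^ (k + 1))⁻¹ by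
        rw [pow_succ']; group] at this
  have key : ∀ (k : ℕ), ∀ s ∈ S, c * (y ^ k * s * (y ^ k)⁻¹) * c⁻¹ =
      n ^ k * (c * s * c⁻¹) * (n ^ k)⁻¹ := by
    intro k s hs
    induction k with
    | zero => simp
    | succ k ih =>
      have e : c * (y ^ (k + 1) * s * (y ^ (k + 1))⁻¹) * c⁻¹ =
          (c * y * c⁻¹) * (c * (y ^ k * s * (y ^ k)⁻¹) * c⁻¹) * (c * y * c⁻¹)⁻¹ := by
        rw [pow_succ']; group
      have h1 := hS _ (hk (k + 1) s hs)
      rw [e] at h1 ⊢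
      rw [hn _ (hS _ (hk k s hs)) h1, ih, pow_succ']; group
  rcases h with h | h | h
  · left
    intro s hs
    have := key 8 s hs
    rw [h _ (hS s hs)] at this
    simpa using this
  · right; left
    intro s hs
    have := key 6 s hs
    rw [h _ (hS s hs)] at this
    simpa using this
  · right; right
    intro s hs
    have := key 6 s hs
    rw [h _ (hS s hs), show (c * s * c⁻¹)⁻¹ = c * s⁻¹ * c⁻¹ by group] at this
    simpa using this

theorem l35_pw {Q : Type*} [Group Q] {g a : Q} {j : ℕ} (h : g * a * g⁻¹ = a ^ j) (k : ℕ) :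
    g ^ k * a * (g ^ k)⁻¹ = a ^ j ^ k := by
  induction k with
  | zero => simp
  | succ k ih =>
    calc g ^ (k + 1) * a * (g ^ (k + 1))⁻¹ = g * (g ^ k * a * (g ^ k)⁻¹) * g⁻¹ := by
          rw [pow_succ']; group
      _ = _ := by rw [ih, ← conj_pow, h, ← pow_mul, pow_succ']

theorem l35_24 {G : Type*} [Group G] {y s : G} (h : y^8*s*(y^8)⁻¹ = s ∨ y^6*s*(y^6)⁻¹ = s ∨
    y^6*s*(y^6)⁻¹ = s⁻¹) : y ^ 24 * s * (y ^ 24)⁻¹ = s := by
  rcases h with h | h | h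
  · have := l35_pw (j := 1) (h.trans (pow_one s).symm) 3
    rwa [← pow_mul, one_pow, pow_one] at this
  · have := l35_pw (j := 1) (h.trans (pow_one s).symm) 4
    rwa [← pow_mul, one_pow, pow_one] at this
  · have h2 : y ^ 12 * s * (y ^ 12)⁻¹ = s ^ 1 := by
      calc y ^ 12 * s * (y ^ 12)⁻¹ = y ^ 6 * (y^6*s*(y^6)⁻¹) * (y ^ 6)⁻¹ := by
            rw [show 12 = 6 + 6 from rfl, pow_add]; group
        _ = y ^ 6 * s⁻¹ * (y ^ 6)⁻¹ := by rw [h]
        _ = (y^6*s*(y^6)⁻¹)⁻¹ := by group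
        _ = s ^ 1 := by rw [h, inv_inv, pow_one]
    have := l35_pw h2 2
    rwa [← pow_mul, one_pow, pow_one] at this

theorem l35_nrm {Q : Type*} [Group Q] [Finite Q] {g a : Q} {j : ℕ} (h : g * a * g⁻¹ = a ^ j) :
    g ∈ Subgroup.normalizer (Subgroup.zpowers a : Set Q) := by
  refine Subgroup.mem_normalizer_fintype fun n hn => ?_
  obtain ⟨k, rfl⟩ := hn
  simp only
  rw [← conj_zpow, h]
  exact zpow_mem (pow_mem (Subgroup.mem_zpowers a) j) k

theorem l35_mod {Q : Type*} [Group Q] {a : Q} {p i j : ℕ} (ha : orderOf a = p) (h : a ^ i = a ^ j) :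
    i % p = j % p := by
  have := pow_eq_pow_iff_modEq.mp h
  rwa [ha] at this

theorem l35_core11 {G Q : Type*} [Group G] [Finite G] [Group Q] [Finite Q] (T : Subgroup G)
    (h11 : ¬ 11 ∣ T.index) (hact : Act24 T) (H : Subgroup G) (π : H →* Q)
    (hπ : Function.Surjective π) {a g : Q} (ha : orderOf a = 11) (hg : g * a * g⁻¹ = a ^ 4) :
    False := by
  have : Fact (Nat.Prime 11) := ⟨by norm_num⟩
  obtain ⟨x0, hx0⟩ := hπ a
  obtain ⟨g0, rfl⟩ := hπ g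
  obtain ⟨P, -, hP, ⟨x, hx, rfl⟩, hN⟩ := l35_frat π ⊤ ha ⟨x0, trivial, hx0⟩
  obtain ⟨m, -, hm, hg1⟩ := hN g0 (Subgroup.mem_normalizer_iff.mpr fun _ => by simp) (l35_nrm hg)
  obtain ⟨c, -, hc⟩ := l35_into T ⊤ le_top h11 (P.map H.subtype) (hP.map _) le_top
  have h1 := l35_act hact (P.map H.subtype : Subgroup G) c (m * g0 : H) hc (by
    rintro _ ⟨s, hs, rfl⟩
    exact ⟨_, (Subgroup.mem_normalizer_iff.mp hg1 s).1 hs, rfl⟩)
  have hxm : (x : G) ∈ ((P.map H.subtype : Subgroup G) : Set G) := ⟨x, hx, rfl⟩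
  have h2 := l35_24 (h1.imp (· _ hxm) (Or.imp (· _ hxm) (· _ hxm)))
  have h3 : (m * g0) ^ 24 * x * ((m * g0) ^ 24)⁻¹ = x := Subtype.ext (by simpa using h2)
  have h4 := congrArg π h3
  rw [map_mul, map_mul, map_inv, map_pow, map_mul, hm, one_mul, l35_pw hg] at h4
  have := l35_mod ha (h4.trans (pow_one _).symm)
  norm_num at this

theorem l35_core35 {G Q : Type*} [Group G] [Finite G] [Group Q] [Finite Q] (T : Subgroup G)
    (hab : ∀ a ∈ T, ∀ b ∈ T, a * b = b * a)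
    (h5 : ¬ 5 ∣ T.index) (h7 : ¬ 7 ∣ T.index) (hact : Act24 T) (H : Subgroup G) (π : H →* Q)
    (hπ : Function.Surjective π) {a b g : Q} (ha : orderOf a = 7) (hb : orderOf b = 5)
    (hba : b * a * b⁻¹ = a ^ 1) (hg : g * a * g⁻¹ = a ^ 3) (hg' : g * b * g⁻¹ = b ^ 2) :
    False := by
  have : Fact (Nat.Prime 7) := ⟨by norm_num⟩
  have : Fact (Nat.Prime 5) := ⟨by norm_num⟩
  obtain ⟨x0, hx0⟩ := hπ a
  obtain ⟨g0, rfl⟩ := hπ g
  obtain ⟨y0, rfl⟩ := hπ b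
  obtain ⟨P, -, hP, ⟨x, hx, rfl⟩, hN⟩ := l35_frat π ⊤ ha ⟨x0, trivial, hx0⟩
  obtain ⟨m, -, hm, hg1⟩ := hN g0 (Subgroup.mem_normalizer_iff.mpr fun _ => by simp) (l35_nrm hg)
  obtain ⟨m', -, hm', hy1⟩ := hN y0 (Subgroup.mem_normalizer_iff.mpr fun _ => by simp) (l35_nrm hba)
  obtain ⟨c, -, hc⟩ := l35_into T ⊤ le_top h7 (P.map H.subtype) (hP.map _) le_top
  have h1 := l35_act hact (P.map H.subtype : Subgroup G) c (m' * y0 : H) hc (by
    rintro _ ⟨s, hs, rfl⟩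
    exact ⟨_, (Subgroup.mem_normalizer_iff.mp hy1 s).1 hs, rfl⟩)
  have hcen : (m' * y0) ^ 24 ∈ Subgroup.centralizer (P : Set H) := by
    intro s hs
    have hxm : (s : G) ∈ ((P.map H.subtype : Subgroup G) : Set G) := ⟨s, hs, rfl⟩
    have h2 := l35_24 (h1.imp (· _ hxm) (Or.imp (· _ hxm) (· _ hxm)))
    have h3 : (m' * y0) ^ 24 * s * ((m' * y0) ^ 24)⁻¹ = s := Subtype.ext (by simpa using h2)
    exact (mul_inv_eq_iff_eq_mul.mp h3).symm
  obtain ⟨R, hRC, hR, ⟨y, hy, hyb⟩, hN'⟩ := l35_frat π (Subgroup.centralizer (P : Set H)) hb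
    ⟨((m' * y0) ^ 24) ^ 4, pow_mem hcen 4, by
      rw [map_pow, map_pow, map_mul, hm', one_mul, ← pow_mul, ← pow_mod_orderOf, hb]
      norm_num⟩
  have hπg : π (m * g0) = π g0 := by rw [map_mul, hm, one_mul]
  obtain ⟨m2, hm2C, hm2, hg2⟩ := hN' (m * g0) (by
    have hfin : Finite (Subgroup.centralizer (P : Set H) : Set H) := inferInstance
    refine Subgroup.mem_normalizer_fintype fun z hz s hs => ?_
    have h6 : (m * g0)⁻¹ * s * (m * g0)⁻¹⁻¹ ∈ P :=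
      (Subgroup.mem_normalizer_iff.mp (inv_mem hg1) s).1 hs
    have h7 := hz _ h6
    calc s * (m * g0 * z * (m * g0)⁻¹) =
        (m * g0) * (((m * g0)⁻¹ * s * (m * g0)⁻¹⁻¹) * z) * (m * g0)⁻¹ := by group
      _ = _ := by rw [h7]; group) (by rw [hπg]; exact l35_nrm hg')
  have hg3 : m2 * (m * g0) ∈ Subgroup.normalizer (P : Set H) :=
    mul_mem (Subgroup.centralizer_le_normalizer _ hm2C) hg1
  let C : Subgroup G := Subgroup.centralizer {t | ∃ s ∈ P, t = c * (s : G) * c⁻¹}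
  have hTC : T ≤ C := by
    rintro t ht _ ⟨s, hs, rfl⟩
    exact hab _ (hc _ ⟨s, hs, rfl⟩) _ ht
  obtain ⟨d, hdC, hd⟩ := l35_into T C hTC h5 ((R.map H.subtype).map (MulAut.conj c).toMonoidHom)
    ((hR.map _).map _) (by
      rintro _ ⟨_, ⟨z, hz, rfl⟩, rfl⟩ _ ⟨s, hs, rfl⟩
      have h8 : (s : G) * z = z * s := congrArg Subtype.val (hRC hz s hs)
      show c * s * c⁻¹ * (c * z * c⁻¹) = c * z * c⁻¹ * (c * s * c⁻¹)
      calc c * s * c⁻¹ * (c * z * c⁻¹) = c * ((s : G) * z) * c⁻¹ := by group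
        _ = _ := by rw [h8]; group)
  have h9 := l35_act hact {t | ∃ s : H, (s ∈ P ∨ s ∈ R) ∧ t = s} (d * c) (m2 * (m * g0) : H) (by
    rintro _ ⟨s, hs | hs, rfl⟩
    · have e := hdC _ ⟨s, hs, rfl⟩
      have : d * c * (s : G) * (d * c)⁻¹ = c * s * c⁻¹ := by
        calc d * c * (s : G) * (d * c)⁻¹ = (d * (c * s * c⁻¹)) * d⁻¹ := by group
          _ = _ := by rw [← e]; group
      rw [this]
      exact hc _ ⟨s, hs, rfl⟩
    · have := hd _ ⟨_, ⟨s, hs, rfl⟩, rfl⟩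
      rw [show d * c * (s : G) * (d * c)⁻¹ = d * (c * s * c⁻¹) * d⁻¹ by group]
      exact this) (by
    rintro _ ⟨s, hs | hs, rfl⟩
    · exact ⟨_, Or.inl ((Subgroup.mem_normalizer_iff.mp hg3 s).1 hs), rfl⟩
    · exact ⟨_, Or.inr ((Subgroup.mem_normalizer_iff.mp hg2 s).1 hs), rfl⟩)
  have hπ2 : π (m2 * (m * g0)) = π g0 := by rw [map_mul, hm2, one_mul, hπg]
  rcases h9 with h | h | h
  · have h3 : (m2 * (m * g0)) ^ 8 * x * ((m2 * (m * g0)) ^ 8)⁻¹ = x :=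
      Subtype.ext (by simpa using h x ⟨x, Or.inl hx, rfl⟩)
    have h4 := congrArg π h3
    rw [map_mul, map_mul, map_inv, map_pow, hπ2, l35_pw hg] at h4
    have := l35_mod ha (h4.trans (pow_one _).symm)
    norm_num at this
  · have h3 : (m2 * (m * g0)) ^ 6 * y * ((m2 * (m * g0)) ^ 6)⁻¹ = y :=
      Subtype.ext (by simpa using h y ⟨y, Or.inr hy, rfl⟩)
    have h4 := congrArg π h3
    rw [map_mul, map_mul, map_inv, map_pow, hπ2, hyb, l35_pw hg'] at h4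
    have := l35_mod hb (h4.trans (pow_one _).symm)
    norm_num at this
  · have h3 : (m2 * (m * g0)) ^ 6 * x * ((m2 * (m * g0)) ^ 6)⁻¹ = x⁻¹ :=
      Subtype.ext (by simpa using h x ⟨x, Or.inl hx, rfl⟩)
    have h4 := congrArg π h3
    rw [map_mul, map_mul, map_inv, map_pow, hπ2, l35_pw hg, map_inv] at h4
    have h5 : π x ^ (3 ^ 6 + 1) = π x ^ 0 := by rw [pow_succ, h4, inv_mul_cancel, pow_zero]
    have := l35_mod ha h5
    norm_num at this

def l35a : Equiv.Perm (Fin 12) := ⟨![1,2,3,4,5,6,0,7,8,9,10,11], ![6,0,1,2,3,4,5,7,8,9,10,11], by decide, by decide⟩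
def l35b : Equiv.Perm (Fin 12) := ⟨![0,1,2,3,4,5,6,8,9,10,11,7], ![0,1,2,3,4,5,6,11,7,8,9,10], by decide, by decide⟩
def l35g : Equiv.Perm (Fin 12) := ⟨![0,3,6,2,5,1,4,7,9,11,8,10], ![0,5,3,1,6,4,2,7,10,8,11,9], by decide, by decide⟩
def l11a : Equiv.Perm (Fin 11) := finRotate 11
def l11g : Equiv.Perm (Fin 11) := ⟨fun i => 4 * i, fun i => 3 * i, by decide, by decide⟩

theorem l35_emb {n r : ℕ} (hr : n ≤ r) (c : Equiv.Perm (Fin n)) (hc : Equiv.Perm.sign c = 1) :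
    Equiv.Perm.viaEmbeddingHom (Fin.castLEEmb hr) c ∈ alternatingGroup (Fin r) := by
  rw [Equiv.Perm.mem_alternatingGroup, Equiv.Perm.viaEmbeddingHom_apply, Equiv.Perm.viaEmbedding,
    Equiv.Perm.sign_extendDomain, hc]

theorem no11 {G : Type*} [Group G] [Finite G] (T : Subgroup G) (h11 : ¬ 11 ∣ T.index)
    (hact : ∀ y : G, ∃ n : G, (∀ s ∈ T, y*s*y⁻¹ ∈ T → y*s*y⁻¹ = n*s*n⁻¹) ∧
      ((∀ s ∈ T, n^8*s*(n^8)⁻¹ = s) ∨ (∀ s ∈ T, n^6*s*(n^6)⁻¹ = s) ∨ (∀ s ∈ T, n^6*s*(n^6)⁻¹ = s⁻¹)))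
    (r : ℕ) (H : Subgroup G) (K : Subgroup H) [K.Normal]
    (h : Nonempty (H ⧸ K ≃* alternatingGroup (Fin r))) : r ≤ 10 := by
  by_contra hr0
  have hr : 11 ≤ r := by omega
  obtain ⟨e⟩ := h
  let ι := Equiv.Perm.viaEmbeddingHom (Fin.castLEEmb hr)
  have hι : Function.Injective ι := Equiv.Perm.viaEmbeddingHom_injective _
  refine l35_core11 T h11 hact H (e.toMonoidHom.comp (QuotientGroup.mk' K))
    (e.surjective.comp (QuotientGroup.mk'_surjective K))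
    (a := ⟨ι l11a, l35_emb hr _ (by decide +kernel)⟩) (g := ⟨ι l11g, l35_emb hr _ (by decide +kernel)⟩)
    ?_ (Subtype.ext ?_)
  · rw [← Subgroup.orderOf_coe, orderOf_injective ι hι]
    exact orderOf_eq_prime (hp := ⟨by norm_num⟩) (by decide +kernel) (by decide +kernel)
  · simp only [Subgroup.coe_mul, Subgroup.coe_inv, Subgroup.coe_pow]
    rw [← map_inv, ← map_mul, ← map_mul, ← map_pow]
    congr 1
    decide +kernel

theorem no35 {G : Type*} [Group G] [Finite G] (T : Subgroup G)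
    (hab : ∀ a ∈ T, ∀ b ∈ T, a*b = b*a) (h5 : ¬ 5 ∣ T.index) (h7 : ¬ 7 ∣ T.index)
    (hact : ∀ y : G, ∃ n : G, (∀ s ∈ T, y*s*y⁻¹ ∈ T → y*s*y⁻¹ = n*s*n⁻¹) ∧
      ((∀ s ∈ T, n^8*s*(n^8)⁻¹ = s) ∨ (∀ s ∈ T, n^6*s*(n^6)⁻¹ = s) ∨ (∀ s ∈ T, n^6*s*(n^6)⁻¹ = s⁻¹)))
    (r : ℕ) (H : Subgroup G) (K : Subgroup H) [K.Normal]
    (h : Nonempty (H ⧸ K ≃* alternatingGroup (Fin r))) : r ≤ 11 := by
  by_contra hr0
  have hr : 12 ≤ r := by omega
  obtain ⟨e⟩ := h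
  let ι := Equiv.Perm.viaEmbeddingHom (Fin.castLEEmb hr)
  have hι : Function.Injective ι := Equiv.Perm.viaEmbeddingHom_injective _
  refine l35_core35 T hab h5 h7 hact H (e.toMonoidHom.comp (QuotientGroup.mk' K))
    (e.surjective.comp (QuotientGroup.mk'_surjective K))
    (a := ⟨ι l35a, l35_emb hr _ (by decide +kernel)⟩) (b := ⟨ι l35b, l35_emb hr _ (by decide +kernel)⟩)
    (g := ⟨ι l35g, l35_emb hr _ (by decide +kernel)⟩)
    ?_ ?_ (Subtype.ext ?_) (Subtype.ext ?_) (Subtype.ext ?_)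
  · rw [← Subgroup.orderOf_coe, orderOf_injective ι hι]
    exact orderOf_eq_prime (hp := ⟨by norm_num⟩) (by decide +kernel) (by decide +kernel)
  · rw [← Subgroup.orderOf_coe, orderOf_injective ι hι]
    exact orderOf_eq_prime (hp := ⟨by norm_num⟩) (by decide +kernel) (by decide +kernel)
  all_goals
    simp only [Subgroup.coe_mul, Subgroup.coe_inv, Subgroup.coe_pow]
    rw [← map_inv, ← map_mul, ← map_mul, ← map_pow]
    congr 1
    decide +kernel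

end Cfsg.Agent.AltS
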