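import Mathlib
import Cfsg.Agent.AltS.L35

/-!
Transfer of alternating sections along injective homomorphisms, and extension fields.
-/

set_option autoImplicit false

namespace Cfsg.Agent.AltS

theorem l35_tr {G0 G A : Type*} [Group G0] [Group G] [Group A] (j : G0 →* G)
    (hj : Function.Injective j) (H : Subgroup G0) (K : Subgroup H) [K.Normal]
    (h : Nonempty (H ⧸ K ≃* A)) :
    ∃ (H' : Subgroup G) (K' : Subgroup H') (_ : K'.Normal), Nonempty (H' ⧸ K' ≃* A) := by
  obtain ⟨e⟩ := h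
  let π : H.map j →* A := (e.toMonoidHom.comp (QuotientGroup.mk' K)).comp
    (H.equivMapOfInjective j hj).symm.toMonoidHom
  have hπ : Function.Surjective π :=
    (e.surjective.comp (QuotientGroup.mk'_surjective K)).comp (H.equivMapOfInjective j hj).symm.surjective
  exact ⟨H.map j, π.ker, inferInstance, ⟨QuotientGroup.quotientKerEquivOfSurjective π hπ⟩⟩

theorem l35_ext (F : Type*) [Field F] [Fintype F] (p : ℕ) [Fact p.Prime] [CharP F p] (N : ℕ)
    (hN0 : N ≠ 0) (hN : Nat.Coprime p N) :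
    ∃ (K : Type) (_ : Field K) (_ : Fintype K) (_ : Algebra F K), N ∣ Fintype.card K - 1 := by
  have : NeZero N.totient := ⟨(Nat.totient_pos.mpr (Nat.pos_of_ne_zero hN0)).ne'⟩
  refine ⟨FiniteField.Extension F p N.totient, inferInstance, Fintype.ofFinite _, inferInstance, ?_⟩
  rw [← @Nat.card_eq_fintype_card _ (Fintype.ofFinite _), FiniteField.natCard_extension,
    Nat.card_eq_fintype_card]
  obtain ⟨n, -, hn⟩ := FiniteField.card F p
  have hc : Nat.Coprime (Fintype.card F) N := by rw [hn]; exact Nat.Coprime.pow_left _ hN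
  exact (Nat.modEq_iff_dvd' (Nat.one_le_pow _ _ Fintype.card_pos)).mp (Nat.ModEq.pow_totient hc).symm

/-- assembly from the Lie-side facts -/
theorem l35_main {G0 : Type*} [Group G0] (F : Type*) [Field F] [Fintype F] (p : ℕ) [Fact p.Prime]
    [CharP F p]
    (hL : ∀ (K : Type) [Field K] [Fintype K] [Algebra F K],
      ∃ (G : Type) (_ : Group G) (_ : Finite G) (j : G0 →* G) (T : Subgroup G),
        Function.Injective j ∧ (∀ a ∈ T, ∀ b ∈ T, a * b = b * a) ∧
        (∀ l : ℕ, l.Prime → 5 ≤ l → l ∣ Fintype.card K - 1 → ¬ l ∣ T.index) ∧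
        ∀ y : G, ∃ n : G, (∀ s ∈ T, y*s*y⁻¹ ∈ T → y*s*y⁻¹ = n*s*n⁻¹) ∧
          ((∀ s ∈ T, n^8*s*(n^8)⁻¹ = s) ∨ (∀ s ∈ T, n^6*s*(n^6)⁻¹ = s) ∨
            (∀ s ∈ T, n^6*s*(n^6)⁻¹ = s⁻¹)))
    (r : ℕ) (H : Subgroup G0) (K : Subgroup H) [K.Normal]
    (h : Nonempty (H ⧸ K ≃* alternatingGroup (Fin r))) : r ≤ 10 + (if p = 11 then 1 else 0) := by
  have hp : p.Prime := Fact.out
  split_ifs with h11
  · obtain ⟨L, _, _, _, hd⟩ := l35_ext F p 35 (by norm_num) (by rw [h11]; norm_num)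
    obtain ⟨G, _, _, j, T, hj, hab, hi, hact⟩ := hL L
    obtain ⟨H', K', _, h'⟩ := l35_tr j hj H K h
    exact no35 T hab (hi 5 (by norm_num) (by norm_num) (Dvd.dvd.trans (by norm_num) hd))
      (hi 7 (by norm_num) (by norm_num) (Dvd.dvd.trans (by norm_num) hd)) hact r H' K' h'
  · obtain ⟨L, _, _, _, hd⟩ := l35_ext F p 11 (by norm_num)
      ((Nat.coprime_primes hp (by norm_num)).mpr h11)
    obtain ⟨G, _, _, j, T, hj, hab, hi, hact⟩ := hL L
    obtain ⟨H', K', _, h'⟩ := l35_tr j hj H K h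
    exact no11 T (hi 11 (by norm_num) (by norm_num) hd) hact r H' K' h'

end Cfsg.Agent.AltS
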