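import Mathlib
import Cfsg.Agent.Chev.All2
import Cfsg.Agent.Chev.Weyl

/-! Orders of elements in the Weyl group of type `F₄`. -/

set_option autoImplicit false
set_option maxRecDepth 100000
set_option synthInstance.maxSize 4096

namespace Cfsg.Agent.AltS
open Cfsg.Lie Cfsg.Agent.Chev

attribute [local instance] good2F4

/-- integer vectors of length four -/
abbrev V4 : Type := ℤ × ℤ × ℤ × ℤ

/-- coordinates of a root -/
def wv (r : Rt chevF4) : V4 :=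
  (co r (0 : Fin 4), co r (1 : Fin 4), co r (2 : Fin 4), co r (3 : Fin 4))

/-- a linear map given by the images of the basis -/
def wap (a b c d : V4) (v : V4) : V4 :=
  (v.1 * a.1 + v.2.1 * b.1 + v.2.2.1 * c.1 + v.2.2.2 * d.1,
   v.1 * a.2.1 + v.2.1 * b.2.1 + v.2.2.1 * c.2.1 + v.2.2.2 * d.2.1,
   v.1 * a.2.2.1 + v.2.1 * b.2.2.1 + v.2.2.1 * c.2.2.1 + v.2.2.2 * d.2.2.1,
   v.1 * a.2.2.2 + v.2.1 * b.2.2.2 + v.2.2.1 * c.2.2.2 + v.2.2.2 * d.2.2.2)

/-- simple roots -/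
def ws (i : Fin 4) : Rt chevF4 := sim i

theorem wf4_chk : ∀ a : Rt chevF4, ∀ b : Rt chevF4,
    pr a b = pr (ws 0) (ws 1) ∧ pr b a = pr (ws 1) (ws 0) → ∀ c : Rt chevF4,
    pr a c = pr (ws 0) (ws 2) ∧ pr b c = pr (ws 1) (ws 2) ∧ pr c b = pr (ws 2) (ws 1) →
    ∀ d : Rt chevF4, pr a d = pr (ws 0) (ws 3) ∧ pr b d = pr (ws 1) (ws 3) ∧
      pr c d = pr (ws 2) (ws 3) ∧ pr d c = pr (ws 3) (ws 2) →
    (∀ i : Fin 4, (wap (wv a) (wv b) (wv c) (wv d))^[8] (wv (ws i)) = wv (ws i)) ∨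
    (∀ i : Fin 4, (wap (wv a) (wv b) (wv c) (wv d))^[6] (wv (ws i)) = wv (ws i)) ∨
    (∀ i : Fin 4, (wap (wv a) (wv b) (wv c) (wv d))^[6] (wv (ws i)) = wv (ng (ws i))) := by
  decide +kernel

theorem wv_inj : ∀ r s : Rt chevF4, wv r = wv s → r = s := by decide +kernel

theorem wv_smul (w : W chevF4) (r : Rt chevF4) :
    wv (w • r) = wap (wv (w • ws 0)) (wv (w • ws 1)) (wv (w • ws 2)) (wv (w • ws 3)) (wv r) := by
  have h : ∀ j : Fin 4, co (w • r) j = co r (0 : Fin 4) * co (w • ws 0) j +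
      co r (1 : Fin 4) * co (w • ws 1) j + co r (2 : Fin 4) * co (w • ws 2) j +
      co r (3 : Fin 4) * co (w • ws 3) j := fun j => by
    exact (congrFun (co_smul w r) j).trans ((Finset.sum_apply _ _ _).trans (Fin.sum_univ_four _))
  exact Prod.ext (h 0) (Prod.ext (h 1) (Prod.ext (h 2) (h 3)))

theorem wv_pow (w : W chevF4) (k : ℕ) (r : Rt chevF4) : wv (w ^ k • r) =
    (wap (wv (w • ws 0)) (wv (w • ws 1)) (wv (w • ws 2)) (wv (w • ws 3)))^[k] (wv r) := by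
  induction k with
  | zero => simp
  | succ k ih => rw [pow_succ', mul_smul, wv_smul, ih, Function.iterate_succ_apply']

theorem wv_neg : ∀ r : Rt chevF4,
    wap (wv (ng (ws 0))) (wv (ng (ws 1))) (wv (ng (ws 2))) (wv (ng (ws 3))) (wv r) = wv (ng r) ∧
    wap (wv (ws 0)) (wv (ws 1)) (wv (ws 2)) (wv (ws 3)) (wv r) = wv r := by decide +kernel

theorem wf4 (w : W chevF4) : w ^ 8 = 1 ∨ w ^ 6 = 1 ∨ ∀ r : Rt chevF4, (w ^ 6) • r = ng r := by
  have one : ∀ v : W chevF4, (∀ i, v • ws i = ws i) → v = 1 := fun v h => W_ext fun r =>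
    wv_inj _ _ (by rw [wv_smul, h, h, h, h, (wv_neg r).2, one_smul])
  rcases wf4_chk (w • ws 0) (w • ws 1) (by simp) (w • ws 2) (by simp) (w • ws 3) (by simp) with
    h | h | h
  · exact Or.inl (one _ fun i => wv_inj _ _ ((wv_pow w 8 _).trans (h i)))
  · exact Or.inr (Or.inl (one _ fun i => wv_inj _ _ ((wv_pow w 6 _).trans (h i))))
  · have k : ∀ i, w ^ 6 • ws i = ng (ws i) := fun i => wv_inj _ _ ((wv_pow w 6 _).trans (h i))
    exact Or.inr (Or.inr fun r => wv_inj _ _ (by rw [wv_smul, k, k, k, k, (wv_neg r).1]))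

end Cfsg.Agent.AltS
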